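import Groth.Prelude.Def_FlatCA
import Mathlib.RingTheory.Localization.BaseChange
import Mathlib.RingTheory.Nakayama
import Mathlib.LinearAlgebra.FreeModule.Finite.Basic

/-! Universal injectivity of multiplication by fibre-regular elements. -/

set_option autoImplicit false
set_option backward.isDefEq.respectTransparency false
set_option linter.style.haveILetI false

noncomputable section

namespace Groth.Agent.FlatNzd

universe u

open TensorProduct IsLocalRing

attribute [local instance] Algebra.TensorProduct.rightAlgebra

variable {R : Type u} [CommRing R]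

theorem univInj_of_bijective {M N : Type u} [AddCommGroup M] [AddCommGroup N] [Module R M] [Module R N]
    (f : M →ₗ[R] N) (hf : Function.Bijective f) : FlatCA.UnivInj R f := by
  intro Q _ _
  have h : f.lTensor Q = (LinearEquiv.lTensor Q (LinearEquiv.ofBijective f hf)).toLinearMap := by
    ext q m; rfl
  rw [h]
  exact LinearEquiv.injective _

theorem univInj_of_comp {M N P : Type u} [AddCommGroup M] [AddCommGroup N] [AddCommGroup P]
    [Module R M] [Module R N] [Module R P] (f : M →ₗ[R] N) (g : N →ₗ[R] P)
    (h : FlatCA.UnivInj R (g ∘ₗ f)) : FlatCA.UnivInj R f := fun Q _ _ => by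
  have h' := h Q
  rw [LinearMap.lTensor_comp, LinearMap.coe_comp] at h'
  exact Function.Injective.of_comp h'

variable [IsLocalRing R] {S : Type u} [CommRing S] [Algebra R S] {N : Type u} [AddCommGroup N]
  [Module S N] [Module R N] [IsScalarTower R S N]

theorem nzd_lTensor_injective {s : S} (hs : s ∈ FlatCA.nzdFiber R S N) :
    Function.Injective (((LinearMap.lsmul S N s).restrictScalars R).lTensor (maximalIdeal R).ResidueField) := by
  let K := (maximalIdeal R).ResidueField
  let e := Algebra.IsPushout.cancelBaseChange R K S (K ⊗[R] S) N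
  have he' : ∀ y, s • e.symm y = e.symm (((LinearMap.lsmul S N s).restrictScalars R).lTensor K y) := by
    intro y
    induction y using TensorProduct.induction_on with
    | zero => simp
    | add a b ha hb => simp only [smul_add, map_add, ha, hb]
    | tmul k n =>
      rw [LinearMap.lTensor_tmul, Algebra.IsPushout.cancelBaseChange_symm_tmul,
        Algebra.IsPushout.cancelBaseChange_symm_tmul, ← TensorProduct.tmul_smul]
      rfl
  have he : ∀ z, e (s • z) = ((LinearMap.lsmul S N s).restrictScalars R).lTensor K (e z) := by
    intro z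
    have := congrArg e (he' (e z))
    rwa [e.symm_apply_apply, e.apply_symm_apply] at this
  intro a b hab
  refine e.symm.injective ?_
  have h0 : s • (e.symm a - e.symm b) = 0 := by
    apply e.injective
    rw [he, map_zero, map_sub, e.apply_symm_apply, e.apply_symm_apply, map_sub, sub_eq_zero]
    exact hab
  exact sub_eq_zero.mp (hs _ h0)

theorem univInj_toLocalization (M : Submonoid S)
    (h : ∀ s ∈ M, FlatCA.UnivInj R ((LinearMap.lsmul S N s).restrictScalars R)) :
    FlatCA.UnivInj R ((LocalizedModule.mkLinearMap M N).restrictScalars R) := by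
  intro Q _ _
  let ℓ := LocalizedModule.mkLinearMap M N
  have hcomm : ∀ {P : Type u} [AddCommGroup P] [Module R P] (f : N →ₗ[R] P) (x : N ⊗[R] Q),
      TensorProduct.comm R P Q (f.rTensor Q x) = f.lTensor Q (TensorProduct.comm R N Q x) := by
    intro P _ _ f x
    induction x using TensorProduct.induction_on with
    | zero => simp
    | add a b ha hb => simp only [map_add, ha, hb]
    | tmul n q => rfl
  rw [injective_iff_map_eq_zero]
  intro y hy
  obtain ⟨x, rfl⟩ := (TensorProduct.comm R N Q).surjective y
  rw [← hcomm, LinearEquiv.map_eq_zero_iff] at hy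
  obtain ⟨⟨s, hs⟩, hs0⟩ := (IsLocalizedModule.eq_zero_iff M
    (AlgebraTensorModule.rTensor R Q ℓ)).mp hy
  have h2 : ∀ x : N ⊗[R] Q, s • x = ((LinearMap.lsmul S N s).restrictScalars R).rTensor Q x := by
    intro x
    induction x using TensorProduct.induction_on with
    | zero => simp
    | add a b ha hb => simp only [smul_add, map_add, ha, hb]
    | tmul n q => rfl
  rw [Submonoid.smul_def, h2] at hs0
  have h3 := hcomm ((LinearMap.lsmul S N s).restrictScalars R) x
  rw [hs0, map_zero] at h3
  exact (injective_iff_map_eq_zero _).mp (h s hs Q) _ h3.symm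

theorem exists_leftInverse_of_injective_mod {F G : Type u} [AddCommGroup F] [AddCommGroup G] [Module R F]
    [Module R G] [Module.Finite R F] [Module.Projective R G] (f : F →ₗ[R] G)
    (hf : Function.Injective (f.lTensor (maximalIdeal R).ResidueField)) :
    ∃ g : G →ₗ[R] F, Function.Bijective (g ∘ₗ f) := by
  let K := (maximalIdeal R).ResidueField
  letI : Field K := inferInstance
  obtain ⟨l, hl⟩ := (f.baseChange K).exists_leftInverse_of_injective (LinearMap.ker_eq_bot.mpr hf)
  have hs : Function.Surjective (TensorProduct.mk R K F 1) :=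
    TensorProduct.mk_surjective R F K (Ideal.algebraMap_residueField_surjective _)
  obtain ⟨g, hg⟩ := Module.projective_lifting_property (TensorProduct.mk R K F 1)
    ((l.restrictScalars R) ∘ₗ TensorProduct.mk R K G 1) hs
  refine ⟨g, OrzechProperty.bijective_of_surjective_endomorphism _ ?_⟩
  rw [← LinearMap.range_eq_top, ← top_le_iff]
  refine Submodule.le_of_le_smul_of_le_jacobson_bot Module.Finite.fg_top
    (maximalIdeal_le_jacobson _) fun v _ => ?_
  have h1 : (1 : K) ⊗ₜ[R] (g (f v) - v) = (0 : K ⊗[R] F) := by
    have hl' := LinearMap.congr_fun hl ((1 : K) ⊗ₜ v)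
    have hg' := LinearMap.congr_fun hg (f v)
    simp only [LinearMap.comp_apply, LinearMap.id_apply, TensorProduct.mk_apply,
      LinearMap.restrictScalars_apply, LinearMap.baseChange_tmul] at hl' hg'
    rw [TensorProduct.tmul_sub, hg', hl', sub_self]
  let j : (R ⧸ maximalIdeal R) ≃ₗ[R] K :=
    LinearEquiv.ofBijective ((IsScalarTower.toAlgHom R (R ⧸ maximalIdeal R) K).toLinearMap)
      (Ideal.bijective_algebraMap_quotient_residueField (maximalIdeal R))
  have h2 : (1 : R ⧸ maximalIdeal R) ⊗ₜ[R] (g (f v) - v) = (0 : (R ⧸ maximalIdeal R) ⊗[R] F) := by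
    apply (LinearEquiv.rTensor F j).injective
    rw [map_zero, LinearEquiv.rTensor_tmul]
    rw [show j 1 = 1 from map_one (IsScalarTower.toAlgHom R (R ⧸ maximalIdeal R) K)]
    exact h1
  have h3 := congrArg (TensorProduct.quotTensorEquivQuotSMul F (maximalIdeal R)) h2
  rw [map_zero, ← map_one (Ideal.Quotient.mk (maximalIdeal R)),
    TensorProduct.quotTensorEquivQuotSMul_mk_tmul, one_smul, Submodule.Quotient.mk_eq_zero] at h3
  refine Submodule.mem_sup.mpr ⟨g (f v), ⟨v, rfl⟩, -(g (f v) - v), neg_mem h3, by abel⟩

theorem univInj_of_projective {P G : Type u} [AddCommGroup P] [AddCommGroup G] [Module R P] [Module R G]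
    [Module.Projective R P] [Module.Projective R G] (f : P →ₗ[R] G)
    (hf : Function.Injective (f.lTensor (maximalIdeal R).ResidueField)) : FlatCA.UnivInj R f := by
  classical
  intro Q _ _
  rw [injective_iff_map_eq_zero]
  intro x hx
  obtain ⟨s, hs⟩ := Module.projective_def'.mp ‹Module.Projective R P›
  let π := Finsupp.linearCombination R (id : P → P)
  let F := P →₀ R
  let ft : F →ₗ[R] G × F := (f ∘ₗ π).prod (LinearMap.id - s ∘ₗ π)
  have hπs : ∀ p, π (s p) = p := fun p => LinearMap.congr_fun hs p
  have hft : ∀ {A : Type u} [AddCommGroup A] [Module R A], Function.Injective (f.lTensor A) →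
      Function.Injective (ft.lTensor A) := by
    intro A _ _ hA
    rw [injective_iff_map_eq_zero]
    intro z hz
    have h1 := congrArg ((LinearMap.fst R G F).lTensor A) hz
    have h2 := congrArg ((LinearMap.snd R G F).lTensor A) hz
    rw [← LinearMap.lTensor_comp_apply, map_zero, LinearMap.fst_prod, LinearMap.lTensor_comp_apply] at h1
    rw [← LinearMap.lTensor_comp_apply, map_zero, LinearMap.snd_prod, LinearMap.lTensor_sub,
      LinearMap.sub_apply, LinearMap.lTensor_id_apply, LinearMap.lTensor_comp_apply,
      (injective_iff_map_eq_zero _).mp hA _ h1, map_zero, sub_zero] at h2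
    exact h2
  let z := s.lTensor Q x
  have hz : π.lTensor Q z = x := by
    rw [← LinearMap.lTensor_comp_apply, hs, LinearMap.lTensor_id_apply]
  have hz0 : ft.lTensor Q z = 0 := by
    have h1 : ft ∘ₗ s = LinearMap.inl R G F ∘ₗ f := by
      refine LinearMap.ext fun p => Prod.ext ?_ ?_
      · show f (π (s p)) = f p
        rw [hπs]
      · show s p - s (π (s p)) = 0
        rw [hπs, sub_self]
    rw [← LinearMap.lTensor_comp_apply, h1, LinearMap.lTensor_comp_apply, hx, map_zero]
  suffices z = 0 by rw [← hz, this, map_zero]
  -- restrict to a finite free submodule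
  let ib (b : Finset P) := Finsupp.linearCombination R (fun i : b => Finsupp.single (i : P) (1 : R))
  have hrange : ∀ (b : Finset P) (v : F), v.support ⊆ b → ∃ a, ib b a = v := by
    intro b v hv
    refine ⟨Finsupp.comapDomain Subtype.val v Subtype.val_injective.injOn, ?_⟩
    rw [Finsupp.linearCombination_apply, Finsupp.sum_fintype _ _ (by simp)]
    simp only [Finsupp.comapDomain_apply, Finsupp.smul_single, smul_eq_mul, mul_one]
    rw [Finset.sum_coe_sort b (fun p => Finsupp.single p (v p))]
    exact (Finsupp.sum_of_support_subset v hv Finsupp.single fun _ _ => Finsupp.single_zero _).symm.trans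
      v.sum_single
  obtain ⟨b, hb⟩ : ∃ b : Finset P, ∀ b', b ⊆ b' → z ∈ LinearMap.range ((ib b').lTensor Q) := by
    induction z using TensorProduct.induction_on with
    | zero => exact ⟨∅, fun _ _ => zero_mem _⟩
    | tmul q v =>
      refine ⟨v.support, fun b' hb' => ?_⟩
      obtain ⟨a, ha⟩ := hrange b' v hb'
      exact ⟨q ⊗ₜ a, by rw [LinearMap.lTensor_tmul, ha]⟩
    | add a c ha hc =>
      obtain ⟨b₁, h₁⟩ := ha
      obtain ⟨b₂, h₂⟩ := hc
      exact ⟨b₁ ∪ b₂, fun b' hb' => add_mem (h₁ b' (Finset.union_subset_left hb'))
        (h₂ b' (Finset.union_subset_right hb'))⟩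
  replace hb := hb b subset_rfl
  obtain ⟨w, hw⟩ := hb
  let i := Finsupp.linearCombination R (fun i : b => Finsupp.single (i : P) (1 : R))
  have hi : ∀ {A : Type u} [AddCommGroup A] [Module R A], Function.Injective (i.lTensor A) := by
    intro A _ _
    refine Function.LeftInverse.injective (g := (Finsupp.lcomapDomain (fun i : b => (i : P))
      Subtype.val_injective).lTensor A) fun a => ?_
    rw [← LinearMap.lTensor_comp_apply]
    convert LinearMap.lTensor_id_apply A _ a
    refine Finsupp.lhom_ext fun a r => ?_
    ext c
    rw [LinearMap.comp_apply, LinearMap.id_apply, Finsupp.linearCombination_single, Finsupp.smul_single,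
      smul_eq_mul, mul_one]
    show Finsupp.single (a : P) r (c : P) = Finsupp.single a r c
    rw [Finsupp.single_apply, Finsupp.single_apply]
    simp only [Subtype.ext_iff]
  have hi' : Function.Injective ((ft ∘ₗ i).lTensor (maximalIdeal R).ResidueField) := by
    rw [LinearMap.lTensor_comp, LinearMap.coe_comp]
    exact (hft hf).comp hi
  obtain ⟨g, hg⟩ := exists_leftInverse_of_injective_mod (ft ∘ₗ i) hi'
  have hinj : Function.Injective ((g ∘ₗ (ft ∘ₗ i)).lTensor Q) := univInj_of_bijective _ hg Q
  have : w = 0 := by
    refine (injective_iff_map_eq_zero _).mp hinj w ?_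
    rw [LinearMap.lTensor_comp_apply, LinearMap.lTensor_comp_apply, hw, hz0, map_zero]
  rw [← hw, this, map_zero]

end Groth.Agent.FlatNzd
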