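import Groth.Agent.FlatNzd.Basic
import Groth.Agent.Flat.FibreRegular
import Groth.Agent.BlowUpEC.Flat
import Mathlib.RingTheory.TensorProduct.IsBaseChangePi
import Mathlib.Algebra.Module.LocalizedModule.Exact

/-! Fibre-regular elements on flat modules essentially of finite presentation. -/

set_option autoImplicit false
set_option backward.isDefEq.respectTransparency false
set_option linter.style.haveILetI false

noncomputable section

namespace Groth.Agent.FlatNzd

universe u

open TensorProduct IsLocalRing

/-- a finitely presented module over a localization comes from a finitely presented module -/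
theorem exists_fp_model {C S : Type u} [CommRing C] [CommRing S] [Algebra C S] (T : Submonoid C)
    [IsLocalization T S] (N : Type u) [AddCommGroup N] [Module S N] [Module C N]
    [IsScalarTower C S N] [Module.FinitePresentation S N] :
    ∃ (M₀ : Type u) (_ : AddCommGroup M₀) (_ : Module C M₀) (ℓ : M₀ →ₗ[C] N),
      Module.FinitePresentation C M₀ ∧ IsLocalizedModule T ℓ := by
  classical
  obtain ⟨m, K, e, hK⟩ := Module.FinitePresentation.exists_fin S N
  obtain ⟨k, g, rfl⟩ := Submodule.fg_iff_exists_fin_generating_family.mp hK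
  let φ : (Fin m → C) →ₗ[C] (Fin m → S) :=
    LinearMap.pi fun i => (Algebra.linearMap C S) ∘ₗ LinearMap.proj i
  haveI : IsLocalizedModule T φ := IsLocalizedModule.pi T fun _ => Algebra.linearMap C S
  choose vt hvt using fun l => IsLocalizedModule.surj T φ (g l)
  let W := Submodule.span C (Set.range fun l => (vt l).1)
  have hW : W.localized' S T φ = Submodule.span S (Set.range g) := by
    rw [Submodule.localized'_span, ← Set.range_comp]
    refine le_antisymm (Submodule.span_le.mpr ?_) (Submodule.span_le.mpr ?_)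
    · rintro _ ⟨l, rfl⟩
      show φ (vt l).1 ∈ _
      rw [← hvt l, Submonoid.smul_def, ← algebraMap_smul S]
      exact Submodule.smul_mem _ _ (Submodule.subset_span ⟨l, rfl⟩)
    · rintro _ ⟨l, rfl⟩
      have h1 : algebraMap C S (vt l).2 • g l ∈
          Submodule.span S (Set.range (φ ∘ fun l => (vt l).1)) := by
        rw [algebraMap_smul]
        exact Submodule.subset_span ⟨l, (hvt l).symm⟩
      obtain ⟨u, hu⟩ := IsLocalization.map_units S (vt l).2
      rw [← hu] at h1
      exact (Submodule.smul_mem_iff_of_isUnit _ u.isUnit).mp h1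
  let e' : ((Fin m → S) ⧸ W.localized' S T φ) ≃ₗ[C] N :=
    ((Submodule.quotEquivOfEq _ _ hW).trans e.symm).restrictScalars C
  refine ⟨(Fin m → C) ⧸ W, inferInstance, inferInstance,
    e'.toLinearMap ∘ₗ W.toLocalizedQuotient' S T φ, ?_, IsLocalizedModule.of_linearEquiv _ _ _⟩
  refine Module.finitePresentation_of_surjective W.mkQ W.mkQ_surjective ?_
  rw [Submodule.ker_mkQ]
  exact Submodule.fg_span (Set.finite_range _)

/-- multiplication by a fibre-regular element of a model -/
theorem univInj_model {R C S : Type u} [CommRing R] [IsLocalRing R] [CommRing C] [CommRing S]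
    [IsLocalRing S] [Algebra R C] [Algebra R S] [Algebra C S] [IsScalarTower R C S]
    [Algebra.FinitePresentation R C] (q : Ideal C) [q.IsPrime] [IsLocalization.AtPrime S q]
    (hq : q.comap (algebraMap R C) = maximalIdeal R)
    {N : Type u} [AddCommGroup N] [Module S N] [Module R N] [Module C N] [IsScalarTower C S N]
    [IsScalarTower R C N] [Module.Flat R N]
    {M₀ : Type u} [AddCommGroup M₀] [Module R M₀] [Module C M₀] [IsScalarTower R C M₀]
    [Module.FinitePresentation C M₀] (ℓ : M₀ →ₗ[C] N) [IsLocalizedModule q.primeCompl ℓ]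
    (c : C) (hc : c ∈ q)
    (hnzd : Function.Injective (((LinearMap.lsmul C N c).restrictScalars R).lTensor (maximalIdeal R).ResidueField)) :
    FlatCA.UnivInj R ((LinearMap.lsmul C N c).restrictScalars R) := by
  have hR : Flat.FlatAt.FlatAt R M₀ q := (Flat.FlatAt.flatAt_iff q ℓ).mpr ‹_›
  have hreg : ∀ (p : Ideal R) [p.IsPrime], p = maximalIdeal R → ∀ y : M₀ ⊗[R] p.ResidueField,
      c • y = 0 → ∃ s, s ∉ q ∧ s • y = 0 := by
    intro p _ hp y hy
    subst hp
    let K := (maximalIdeal R).ResidueField
    let ℓK := AlgebraTensorModule.rTensor R K ℓ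
    have h1 : ∀ y : N ⊗[R] K, TensorProduct.comm R N K (c • y) =
        ((LinearMap.lsmul C N c).restrictScalars R).lTensor K (TensorProduct.comm R N K y) := by
      intro y
      induction y using TensorProduct.induction_on with
      | zero => simp
      | add a b ha hb => simp only [smul_add, map_add, ha, hb]
      | tmul n k => rfl
    have h2 : ℓK y = 0 := by
      apply (TensorProduct.comm R N K).injective
      apply hnzd
      rw [← h1, ← map_smul ℓK c y, hy, map_zero, map_zero, map_zero]
    obtain ⟨⟨s, hs⟩, hs0⟩ := (IsLocalizedModule.eq_zero_iff q.primeCompl ℓK).mp h2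
    exact ⟨s, hs, hs0⟩
  obtain ⟨hinj, hflat⟩ := Flat.FibreRegular.injective_and_flatAt_quotient (R := R) q c hc hR
    (hreg _ hq)
  let W : Submodule C M₀ := Ideal.span {c} • ⊤
  let ψ := LocalizedModule.mkLinearMap q.primeCompl (M₀ ⧸ W)
  haveI : Module.Flat R (LocalizedModule q.primeCompl (M₀ ⧸ W)) :=
    (Flat.FlatAt.flatAt_iff q ψ).mp hflat
  let π : N →ₗ[C] LocalizedModule q.primeCompl (M₀ ⧸ W) :=
    IsLocalizedModule.map q.primeCompl ℓ ψ W.mkQ
  have hmul : IsLocalizedModule.map q.primeCompl ℓ ℓ (LinearMap.lsmul C M₀ c) = LinearMap.lsmul C N c :=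
    IsLocalizedModule.linearMap_ext q.primeCompl ℓ ℓ (by
      rw [IsLocalizedModule.map_comp]
      ext z
      exact map_smul ℓ c z)
  have hex : Function.Exact (LinearMap.lsmul C M₀ c) W.mkQ := by
    intro z
    rw [Submodule.mkQ_apply, Submodule.Quotient.mk_eq_zero]
    show z ∈ Ideal.span {c} • (⊤ : Submodule C M₀) ↔ _
    rw [Submodule.ideal_span_singleton_smul]
    constructor
    · rintro ⟨z', -, rfl⟩; exact ⟨z', rfl⟩
    · rintro ⟨z', rfl⟩; exact Submodule.smul_mem_pointwise_smul z' c ⊤ trivial
  have hex' := IsLocalizedModule.map_exact q.primeCompl ℓ ℓ ψ _ _ hex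
  rw [hmul] at hex'
  have hsurj : Function.Surjective π :=
    IsLocalizedModule.map_surjective q.primeCompl ℓ ψ _ W.mkQ_surjective
  have hinjN : Function.Injective (LinearMap.lsmul C N c) := by
    rw [injective_iff_map_eq_zero]
    intro z hz
    obtain ⟨⟨z₀, t⟩, ht⟩ := IsLocalizedModule.surj q.primeCompl ℓ z
    have h3 : ℓ (c • z₀) = 0 := by
      rw [map_smul, ← ht, Submonoid.smul_def, smul_comm, show c • z = 0 from hz, smul_zero]
    obtain ⟨⟨s, hs⟩, hs0⟩ := (IsLocalizedModule.eq_zero_iff q.primeCompl ℓ).mp h3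
    rw [Submonoid.smul_def, smul_comm] at hs0
    obtain ⟨s', hs', hs'0⟩ := hinj _ hs0
    rw [← mul_smul] at hs'0
    have h4 : ℓ z₀ = 0 :=
      (IsLocalizedModule.eq_zero_iff q.primeCompl ℓ).mpr ⟨⟨_, q.primeCompl.mul_mem hs' hs⟩, hs'0⟩
    rw [← ht] at h4
    exact ((Module.End.isUnit_iff _).mp (IsLocalizedModule.map_units ℓ t)).injective
      (h4.trans (map_zero _).symm)
  intro Q _ _
  exact BlowUpEC.lTensor_injective_of_flat_coker (N := Q) ((LinearMap.lsmul C N c).restrictScalars R)
    (π.restrictScalars R) hinjN hex' hsurj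

theorem univInj_of_nzdFiber {R S : Type u} [CommRing R] [IsLocalRing R] [CommRing S] [IsLocalRing S]
    [Algebra R S] [IsLocalHom (algebraMap R S)] (hS : FlatCA.EssFinitePresentation R S)
    {N : Type u} [AddCommGroup N] [Module S N] [Module R N] [IsScalarTower R S N]
    [Module.FinitePresentation S N] [Module.Flat R N] {s : S} (hs : s ∈ FlatCA.nzdFiber R S N) :
    FlatCA.UnivInj R ((LinearMap.lsmul S N s).restrictScalars R) := by
  obtain ⟨C, _, _, _, _, T, _, _⟩ := hS
  by_cases hu : IsUnit s
  · exact univInj_of_bijective _ ((Module.End.isUnit_iff _).mp (hu.map (Algebra.lsmul R R N)))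
  let q := (maximalIdeal S).comap (algebraMap C S)
  haveI hloc : IsLocalization.AtPrime S q :=
    IsLocalization.of_le T q.primeCompl
      (fun t ht h => h (IsLocalization.map_units S (⟨t, ht⟩ : T)))
      fun t ht => by
        by_contra h
        exact ht h
  have hq : q.comap (algebraMap R C) = maximalIdeal R := by
    rw [Ideal.comap_comap, ← IsScalarTower.algebraMap_eq R C S]
    exact ((local_hom_TFAE (algebraMap R S)).out 0 4).mp ‹IsLocalHom (algebraMap R S)›
  letI : Module C N := Module.compHom N (algebraMap C S)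
  haveI : IsScalarTower C S N := IsScalarTower.of_algebraMap_smul fun _ _ => rfl
  haveI : IsScalarTower R C N := IsScalarTower.of_algebraMap_smul fun r n => by
    show algebraMap C S (algebraMap R C r) • n = r • n
    rw [← IsScalarTower.algebraMap_apply, algebraMap_smul]
  obtain ⟨M₀, _, _, ℓ, _, _⟩ := exists_fp_model (S := S) q.primeCompl N
  letI : Module R M₀ := Module.compHom M₀ (algebraMap R C)
  haveI : IsScalarTower R C M₀ := IsScalarTower.of_algebraMap_smul fun _ _ => rfl
  obtain ⟨⟨c, t⟩, hct⟩ := IsLocalization.surj q.primeCompl s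
  have hc : c ∈ q := by
    show algebraMap C S c ∈ maximalIdeal S
    rw [← hct]
    exact Ideal.mul_mem_right _ _ hu
  have he : (LinearMap.lsmul C N c).restrictScalars R =
      (LinearMap.lsmul S N (algebraMap C S t)).restrictScalars R ∘ₗ (LinearMap.lsmul S N s).restrictScalars R := by
    ext n
    show algebraMap C S c • n = algebraMap C S t • s • n
    rw [← hct, smul_smul, mul_comm]
  refine univInj_of_comp _ ((LinearMap.lsmul S N (algebraMap C S t)).restrictScalars R) ?_
  rw [← he]
  refine univInj_model (S := S) q hq ℓ c hc ?_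
  rw [he, LinearMap.lTensor_comp, LinearMap.coe_comp]
  exact ((univInj_of_bijective _ ((Module.End.isUnit_iff _).mp
    ((IsLocalization.map_units S t).map (Algebra.lsmul R R N)))) _).comp (nzd_lTensor_injective hs)

end Groth.Agent.FlatNzd
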